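import Cfsg.Agent.OddCores.Constrained
import Cfsg.Agent.CharP.CentralElements
import Cfsg.Agent.Solvable.Basics

/-!
Cores of constrained involution centralizers vanish when a Sylow subgroup has a normal elementary
abelian subgroup of order at least eight, given that cores of strongly embedded subgroups lie in
the core of the group.
-/

set_option autoImplicit false
set_option linter.unusedSectionVars false
set_option linter.style.haveILetI false

namespace CfsgLib.OddCores

open Subgroup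
open CfsgLib.SFTCor (gen)

universe u

/-- The core of a strongly embedded subgroup lies in the core of the group. -/
def StrongCoreInCore (G : Type u) [Group G] : Prop :=
  ∀ H : Subgroup G, Cfsg.IsStronglyEmbedded H → (Cfsg.oddCore ↥H).map H.subtype ≤ Cfsg.oddCore G

variable {G : Type u} [Group G] [Finite G]

theorem map_elementary {A B : Type*} [Group A] [Group B] {E : Subgroup A} {p : ℕ}
    (hE : Cfsg.IsElementaryAbelian p E) (f : A →* B) : Cfsg.IsElementaryAbelian p (E.map f) := by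
  refine ⟨⟨⟨?_⟩⟩, ?_⟩
  · rintro ⟨_, x, hx, rfl⟩ ⟨_, y, hy, rfl⟩
    refine Subtype.ext ?_
    show f x * f y = f y * f x
    rw [← map_mul, ← map_mul, show x * y = y * x from congrArg Subtype.val (hE.1.is_comm.comm ⟨x, hx⟩ ⟨y, hy⟩)]
  · rintro _ ⟨x, hx, rfl⟩
    rw [← map_pow, hE.2 x hx, map_one]

theorem subgroupOf_elementary {A : Type*} [Group A] {E C : Subgroup A} {p : ℕ}
    (hE : Cfsg.IsElementaryAbelian p E) : Cfsg.IsElementaryAbelian p (E.subgroupOf C) := by
  refine ⟨⟨⟨?_⟩⟩, ?_⟩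
  · rintro ⟨x, hx⟩ ⟨y, hy⟩
    refine Subtype.ext (Subtype.ext ?_)
    show (x : A) * y = y * x
    exact congrArg Subtype.val (hE.1.is_comm.comm ⟨_, mem_subgroupOf.1 hx⟩ ⟨_, mem_subgroupOf.1 hy⟩)
  · intro x hx
    exact Subtype.ext (by simpa using hE.2 _ (mem_subgroupOf.1 hx))

/-- An elementary abelian `2`-subgroup meeting `O_{2',2}` in the identity and one central element,
and commutated by a Sylow subgroup of `O_{2',2}` into that element, lies in `O_{2',2}`. -/
theorem le_pPrimePCore_of_central {C : Type*} [Group C] [Finite C] (hc : Cfsg.IsPConstrained 2 C)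
    {T F : Subgroup C} (hT : Cfsg.pPrimePCore 2 C ≤ T ⊔ Cfsg.oddCore C) {i : C} (hi : i * i = 1)
    (hic : ∀ c : C, c * i = i * c) (hFT : ∀ f ∈ F, ∀ t ∈ T, f * t * f⁻¹ * t⁻¹ ∈ zpowers i) :
    F ≤ Cfsg.pPrimePCore 2 C := by
  set O := Cfsg.oddCore C
  set π := QuotientGroup.mk' O with hπ
  set R := Cfsg.pCore 2 (C ⧸ O)
  set Z := (zpowers i).map π with hZ
  have hπs : Function.Surjective π := QuotientGroup.mk'_surjective _
  have hZc : ∀ z ∈ Z, ∀ c : C ⧸ O, c * z = z * c := by
    rintro _ ⟨z, hz, rfl⟩ c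
    obtain ⟨c, rfl⟩ := hπs c
    obtain ⟨k, rfl⟩ := mem_zpowers_iff.1 hz
    rw [← map_mul, ← map_mul, ((show Commute c i from hic c).zpow_right k).eq]
  have hZ2 : ∀ z ∈ Z, z * z = 1 := by
    rintro _ ⟨z, hz, rfl⟩
    obtain ⟨k, rfl⟩ := mem_zpowers_iff.1 hz
    rw [← map_mul, ← (Commute.refl i).mul_zpow, hi, one_zpow, map_one]
  let K : Subgroup (C ⧸ O) :=
    { carrier := {c | ∀ t ∈ R, c * t * c⁻¹ * t⁻¹ ∈ Z}
      one_mem' := fun t _ => by simp
      mul_mem' := fun {c d} hc hd t ht => by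
        have e : c * d * t * (c * d)⁻¹ * t⁻¹ =
            (c * (d * t * d⁻¹ * t⁻¹) * c⁻¹) * (c * t * c⁻¹ * t⁻¹) := by group
        rw [e, hZc _ (hd t ht) c, mul_inv_cancel_right]
        exact mul_mem (hd t ht) (hc t ht)
      inv_mem' := fun {c} hc t ht => by
        have h1 := hc t ht
        have e : c⁻¹ * t * c⁻¹⁻¹ * t⁻¹ = c⁻¹ * (c * t * c⁻¹ * t⁻¹)⁻¹ * c := by group
        rw [e, mul_assoc, ← hZc _ (inv_mem h1) c, inv_mul_cancel_left]
        exact inv_mem h1 }
  have hKn : K.Normal := ⟨fun c hc g t ht => by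
    have e : g * c * g⁻¹ * t * (g * c * g⁻¹)⁻¹ * t⁻¹ =
        g * (c * (g⁻¹ * t * g) * c⁻¹ * (g⁻¹ * t * g)⁻¹) * g⁻¹ := by group
    have h1 : g⁻¹ * t * g ∈ R := by
      have h := (Cfsg.pCore_normal 2 (C ⧸ O)).conj_mem t ht g⁻¹
      rwa [show g⁻¹ * t * g⁻¹⁻¹ = g⁻¹ * t * g by group] at h
    have h2 := hc _ h1
    rw [e, hZc _ h2 g, mul_inv_cancel_right]
    exact h2⟩
  have hKp : IsPGroup 2 K := by
    intro c
    have h1 : (c : C ⧸ O) ^ 2 ∈ centralizer (R : Set (C ⧸ O)) := by
      refine mem_centralizer_iff.2 fun t ht => ?_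
      set z := (c : C ⧸ O) * t * (c : C ⧸ O)⁻¹ * t⁻¹ with hz
      have hzZ : z ∈ Z := c.2 t ht
      have hct : (c : C ⧸ O) * t = z * t * c := by rw [hz]; group
      rw [sq]
      calc t * ((c : C ⧸ O) * c) = (z * z) * t * (c * c) := by rw [hZ2 z hzZ, one_mul]
        _ = z * (z * t * c) * c := by group
        _ = z * (c * t) * c := by rw [hct]
        _ = (z * c) * t * c := by group
        _ = c * z * t * c := by rw [hZc z hzZ]
        _ = c * (z * t * c) := by group
        _ = c * (c * t) := by rw [hct]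
        _ = c * c * t := by group
    have h2 : (c : C ⧸ O) ^ 2 ∈ R := ZJ.centralizer_pCore_quotient_le hc h1
    obtain ⟨k, hk⟩ := Solvable.isPGroup_pCore 2 ⟨_, h2⟩
    refine ⟨k + 1, Subtype.ext ?_⟩
    have h3 : ((c : C ⧸ O) ^ 2) ^ 2 ^ k = 1 := by simpa using congrArg Subtype.val hk
    rw [SubgroupClass.coe_pow, OneMemClass.coe_one, pow_succ', pow_mul]
    exact h3
  intro f hf
  show π f ∈ R
  refine Solvable.le_pCore 2 hKn hKp fun t ht => ?_
  obtain ⟨t, rfl⟩ := hπs t
  obtain ⟨x, hx, o, ho, rfl⟩ :=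
    (Solvable.mem_sup_of_le_normalizer (A := T) (K := O) le_normalizer_of_normal).1 (hT ht)
  rw [map_mul, show π o = 1 from (QuotientGroup.eq_one_iff o).2 ho, mul_one, ← map_inv, ← map_inv,
    ← map_mul, ← map_mul, ← map_mul]
  exact mem_map_of_mem _ (hFT f hf x hx)

/-- A Sylow subgroup of `O_{2',2}` of a constrained group with a central involution contains a
four-group, once a Sylow subgroup normalizes one. -/
theorem exists_four_in_core {C : Type*} [Group C] [Finite C] {i₀ : C} (hi₀2 : orderOf i₀ = 2)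
    (hic : ∀ c : C, c * i₀ = i₀ * c) (hc : Cfsg.IsPConstrained 2 C) (P : Sylow 2 C) {F : Subgroup C}
    (hF : Cfsg.IsElementaryAbelian 2 F) (hF4 : 4 ≤ Nat.card F) (hFP : F ≤ P)
    (hPF : (P : Subgroup C) ≤ normalizer (F : Set C)) :
    ∃ U : Subgroup C,
      U ≤ (P : Subgroup C) ⊓ Cfsg.pPrimePCore 2 C ∧ Cfsg.IsElementaryAbelian 2 U ∧
        4 ≤ Nat.card U := by
  haveI : Fact (Nat.Prime 2) := ⟨Nat.prime_two⟩
  set M := Cfsg.pPrimePCore 2 C
  haveI hMn : M.Normal := inferInstanceAs (Subgroup.comap _ _).Normal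
  have hi₀i : i₀ * i₀ = 1 := by rw [← sq, ← hi₀2, pow_orderOf_eq_one]
  have hTn : zpowers i₀ ≤ (P : Subgroup C) ⊓ M := by
    have hn : (zpowers i₀).Normal := ⟨fun x hx g => by
      obtain ⟨k, rfl⟩ := mem_zpowers_iff.1 hx
      rw [((show Commute g i₀ from hic g).zpow_right k).eq, mul_inv_cancel_right]
      exact zpow_mem (mem_zpowers _) k⟩
    have hp : IsPGroup 2 (zpowers i₀) := IsPGroup.of_card (n := 1) (by
      rw [Nat.card_zpowers, hi₀2, pow_one])
    refine le_inf (hp.le_sylow_of_normal P) ?_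
    rw [zpowers_le]
    show QuotientGroup.mk' _ i₀ ∈ Cfsg.pCore 2 _
    exact Solvable.le_pCore 2 (hn.map _ (QuotientGroup.mk'_surjective _)) (hp.map _)
      (mem_map_of_mem _ (mem_zpowers i₀))
  by_cases h : ∃ t ∈ (P : Subgroup C) ⊓ M, orderOf t = 2 ∧ t ≠ i₀
  · obtain ⟨t, htT, ht, hne⟩ := h
    obtain ⟨h1, h2⟩ := elementary_pair hi₀2 ht hne.symm (hic t).symm
    exact ⟨_, sup_le hTn (zpowers_le.2 htT), h1, h2⟩
  push Not at h
  exfalso
  have hFT : ∀ f ∈ F, f ∈ M → f ∈ zpowers i₀ := fun f hf hfM => by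
    rcases eq_or_ne f 1 with rfl | hne
    · exact one_mem _
    · rw [h f ⟨hFP hf, hfM⟩ (orderOf_eq_two hF hf hne)]
      exact mem_zpowers _
  have hFM : F ≤ M := by
    refine le_pPrimePCore_of_central hc (T := (P : Subgroup C) ⊓ M) ?_ hi₀i hic ?_
    · refine ExtTwoLayer.pPrimePCore_le_sup inf_le_right ?_
      rw [inf_relIndex_right]
      exact ExtTwoLayer.coprime_relIndex_inf_of_subnormal hMn.isSubnormal P
    · intro f hf t ht
      refine hFT _ ?_ ?_
      · rw [show f * t * f⁻¹ * t⁻¹ = f * (t * f⁻¹ * t⁻¹) by group]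
        exact mul_mem hf ((mem_normalizer_iff.1 (hPF ht.1) _).1 (inv_mem hf))
      · exact mul_mem (hMn.conj_mem t ht.2 f) (inv_mem ht.2)
  have h4 := card_le_of_le (show F ≤ zpowers i₀ from fun f hf => hFT f hf (hFM hf))
  rw [Nat.card_zpowers, hi₀2] at h4
  omega

theorem core_eq_bot_of_normalized (hB : StrongCoreInCore G) (hO : Cfsg.oddCore G = ⊥)
    (S : Sylow 2 G) {W : Subgroup G} (hW : Odd (Nat.card W))
    (hC : ∀ i ∈ (S : Subgroup G), orderOf i = 2 →
      centralizer ({i} : Set G) ≤ normalizer (W : Set G))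
    (hN : normalizer ((S : Subgroup G) : Set G) ≤ normalizer (W : Set G)) : W = ⊥ := by
  set N := normalizer (W : Set G)
  have hcop : (Nat.card W).Coprime 2 := Nat.coprime_two_right.2 hW
  by_cases hN' : N = ⊤
  · haveI : W.Normal := normalizer_eq_top_iff.1 hN'
    exact le_bot_iff.1 (hO ▸ Solvable.le_pPrimeCore 2 ‹W.Normal› hcop)
  have hSN : (S : Subgroup G) ≤ N := le_normalizer.trans hN
  haveI : Fact (Nat.Prime 2) := ⟨Nat.prime_two⟩
  have hmap : ((S.subtype hSN : Sylow 2 N) : Subgroup N).map N.subtype = (S : Subgroup G) := by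
    rw [Sylow.coe_subtype]
    exact map_subgroupOf_eq_of_le hSN
  have hSE : Cfsg.IsStronglyPEmbedded 2 N := (CentralElements.isStronglyPEmbedded_iff N hN'
    (S.subtype hSN)).2 ⟨fun x hx hxo => hC x (hmap ▸ hx) hxo, by rw [hmap]; exact hN⟩
  have hstr : Cfsg.IsStronglyEmbedded N := by
    refine ⟨hN', even_iff_two_dvd.2 (LocalB.dvd_card_of_stronglyPEmbedded hSE), fun g hg => ?_⟩
    exact Nat.not_even_iff_odd.1 fun he =>
      LocalB.meetsPrime_of_stronglyPEmbedded hSE g hg (even_iff_two_dvd.1 he)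
  have hWN : W ≤ (Cfsg.oddCore N).map N.subtype := by
    intro w hw
    refine ⟨⟨w, le_normalizer hw⟩, Solvable.le_pPrimeCore 2 (N := W.subgroupOf N) ?_ ?_ hw, rfl⟩
    · exact normal_subgroupOf_of_le_normalizer le_rfl
    · rwa [Nat.card_congr (subgroupOfEquivOfLe le_normalizer).toEquiv]
  exact le_bot_iff.1 (hO ▸ hWN.trans (hB N hstr))

/-- With constrained involution centralizers, all their cores are trivial. -/
theorem centralizer_core_eq_bot (hB : StrongCoreInCore G) (hc : CentralizersConstrained G)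
    (hO : Cfsg.oddCore G = ⊥) {S : Sylow 2 G}
    (hE : ∃ E ≤ (S : Subgroup G), (S : Subgroup G) ≤ normalizer (E : Set G) ∧
      Cfsg.IsElementaryAbelian 2 E ∧ 8 ≤ Nat.card E) :
    ∀ t : G, orderOf t = 2 → Cfsg.centralizerPPrimeCore 2 t = ⊥ := by
  haveI : Fact (Nat.Prime 2) := ⟨Nat.prime_two⟩
  obtain ⟨E, hES, hSE, hEe, hE8⟩ := hE
  have hθ := isFunctor_core hc
  set θ : G → Subgroup G := fun a => Cfsg.centralizerPPrimeCore 2 a with hθdef
  set W := gen θ E with hWdef
  have heqv : ∀ a g : G, θ (g * a * g⁻¹) = (θ a).map (MulAut.conj g).toMonoidHom := fun a g =>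
    SFTCor.centralizerPPrimeCore_conj a g
  have hmove : ∀ U : Subgroup G, gen θ U = W → ∀ g : G,
      gen θ (U.map (MulAut.conj g).toMonoidHom) = W → g ∈ normalizer (W : Set G) := by
    intro U hU g hg
    have h1 : gen θ (U.map (MulAut.conj g).toMonoidHom) =
        (gen θ U).map (MulAut.conj g).toMonoidHom := by
      rw [gen, gen, Subgroup.map_iSup]
      refine le_antisymm (iSup_le ?_) (iSup_le ?_)
      · rintro ⟨_, ⟨u, hu, rfl⟩, hne⟩
        refine le_iSup_of_le ⟨u, hu, fun h => hne (by rw [h, map_one])⟩ ?_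
        exact (heqv u g).le
      · rintro ⟨u, hu, hne⟩
        refine le_iSup_of_le ⟨_, mem_map_of_mem _ hu, fun h => hne ?_⟩ (heqv u g).ge
        exact (MulAut.conj g).injective (h.trans (map_one _).symm)
    rw [hU, hg] at h1
    exact Functor.mem_normalizer_iff_cj.2 h1.symm
  have hUS : ∀ U ≤ (S : Subgroup G), Cfsg.IsElementaryAbelian 2 U → 4 ≤ Nat.card U →
      gen θ U = W := fun U hle hU hU4 =>
    hθ.gen_eq_normal S.isPGroup' hES hSE hEe hE8 hU hle hU4
  have hN : normalizer ((S : Subgroup G) : Set G) ≤ normalizer (W : Set G) := fun g hg => by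
    refine hmove E rfl g (hUS _ ?_ ?_ ?_)
    · exact (map_mono hES).trans (Functor.mem_normalizer_iff_cj.1 hg).le
    · exact map_elementary hEe _
    · rw [card_map_of_injective (MulAut.conj g).injective]; omega
  have hC : ∀ i ∈ (S : Subgroup G), orderOf i = 2 →
      centralizer ({i} : Set G) ≤ normalizer (W : Set G) := by
    intro i hiS hi
    set C := centralizer ({i} : Set G)
    obtain ⟨P, hP⟩ := (S.isPGroup'.comap_of_injective C.subtype C.subtype_injective :
      IsPGroup 2 ((S : Subgroup G).subgroupOf C)).exists_le_sylow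
    obtain ⟨S', hS'⟩ := ((P.isPGroup').map C.subtype).exists_le_sylow
    obtain ⟨E', hE'S, hS'E, hE'e, hE'8⟩ := exists_normal_elementary_sylow S'
      ⟨E, hES, hSE, hEe, hE8⟩
    have hUS' : ∀ U ≤ (S' : Subgroup G), Cfsg.IsElementaryAbelian 2 U → 4 ≤ Nat.card U →
        gen θ U = W := by
      intro U hle hU hU4
      rw [hθ.gen_eq_normal S'.isPGroup' hE'S hS'E hE'e hE'8 hU hle hU4]
      have hK : Cfsg.IsElementaryAbelian 2 (E ⊓ C : Subgroup G) := Signalizer.of_le hEe inf_le_left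
      have hK4 := card_fixed hi hEe hE8 (hSE hiS)
      rw [← hθ.gen_eq_normal S'.isPGroup' hE'S hS'E hE'e hE'8 hK ?_ hK4,
        hUS _ (inf_le_left.trans hES) hK hK4]
      exact fun x hx => hS' ⟨⟨x, hx.2⟩, hP (mem_subgroupOf.2 (hES hx.1)), rfl⟩
    have hiC : i ∈ C := mem_centralizer_singleton_iff.2 rfl
    have hiS' : i ∈ (S' : Subgroup G) := hS' ⟨⟨i, hiC⟩, hP (mem_subgroupOf.2 hiS), rfl⟩
    set F := (E' ⊓ C).subgroupOf C with hFdef
    have hF : Cfsg.IsElementaryAbelian 2 F :=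
      subgroupOf_elementary (Signalizer.of_le hE'e inf_le_left)
    have hF4 : 4 ≤ Nat.card F := by
      rw [Nat.card_congr (subgroupOfEquivOfLe inf_le_right).toEquiv]
      exact card_fixed hi hE'e hE'8 (hS'E hiS')
    have hPF : (P : Subgroup C) ≤ normalizer (F : Set C) := by
      intro p hp
      refine mem_normalizer_iff.2 fun x => ?_
      have h1 : (x : G) ∈ E' ↔ (p : G) * x * (p : G)⁻¹ ∈ E' :=
        mem_normalizer_iff.1 (hS'E (hS' ⟨p, hp, rfl⟩)) (x : G)
      simp only [hFdef, mem_subgroupOf, mem_inf, coe_mul, coe_inv, h1, SetLike.coe_mem, and_true]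
      exact (and_iff_left (mul_mem (mul_mem p.2 x.2) (inv_mem p.2))).symm
    have hFP : F ≤ (P : Subgroup C) := by
      have h1 : (P : Subgroup C) = (S' : Subgroup G).subgroupOf C := (P.3
        (S'.isPGroup'.comap_of_injective C.subtype C.subtype_injective)
        fun x hx => mem_subgroupOf.2 (hS' ⟨x, hx, rfl⟩)).symm
      rw [h1]
      exact fun x hx => mem_subgroupOf.2 (hE'S (mem_subgroupOf.1 hx).1)
    obtain ⟨U, hUT, hU, hU4⟩ := exists_four_in_core (i₀ := (⟨i, hiC⟩ : C)) (by rw [← Subgroup.orderOf_coe]; exact hi)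
      (fun c => Subtype.ext (mem_centralizer_singleton_iff.1 c.2)) (hc i hi) P hF hF4 hFP hPF
    set M := Cfsg.pPrimePCore 2 ↥C
    haveI hMn : M.Normal := inferInstanceAs (Subgroup.comap _ _).Normal
    set T := (P : Subgroup C) ⊓ M with hT
    have hUG : ∀ g : C, g ∈ normalizer (T : Set C) → (g : G) ∈ normalizer (W : Set G) := by
      intro g hg
      have hTS : T.map C.subtype ≤ (S' : Subgroup G) := (map_mono inf_le_left).trans hS'
      have hUe : Cfsg.IsElementaryAbelian 2 (U.map C.subtype) := map_elementary hU _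
      have hUc : 4 ≤ Nat.card ↥(U.map C.subtype) := by
        rwa [card_map_of_injective C.subtype_injective]
      refine hmove _ (hUS' _ ((map_mono hUT).trans hTS) hUe hUc) g (hUS' _ ?_
        (map_elementary hUe _) ?_)
      · rintro _ ⟨_, ⟨u, hu, rfl⟩, rfl⟩
        exact hTS ⟨g * u * g⁻¹, (mem_normalizer_iff.1 hg u).1 (hUT hu), rfl⟩
      · rwa [card_map_of_injective (MulAut.conj (g : G)).injective]
    have hTsyl : M ≤ T ⊔ Cfsg.oddCore C := by
      refine ExtTwoLayer.pPrimePCore_le_sup inf_le_right ?_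
      rw [hT, inf_relIndex_right]
      exact ExtTwoLayer.coprime_relIndex_inf_of_subnormal hMn.isSubnormal P
    intro c hc
    have hn : (⟨c, hc⟩ : C) ∈ normalizer ((T ⊔ Cfsg.oddCore C : Subgroup C) : Set C) := by
      have hle : T ⊔ Cfsg.oddCore C = M := le_antisymm (sup_le inf_le_right fun x hx => by
        show QuotientGroup.mk' _ x ∈ Cfsg.pCore 2 _
        rw [show QuotientGroup.mk' (Cfsg.pPrimeCore 2 C) x = 1 from (QuotientGroup.eq_one_iff x).2 hx]
        exact one_mem _) hTsyl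
      rw [hle, normalizer_eq_top]
      exact mem_top _
    obtain ⟨n, hn, hng⟩ := ZJ.exists_mul_mem_normalizer (P.isPGroup'.to_le inf_le_left)
      (Solvable.coprime_card_pPrimeCore 2) hn
    have hnW : (n : G) ∈ W := hθ.theta_le_normal S.isPGroup' hES hSE hEe hE8 hiS hi ⟨n, hn, rfl⟩
    have := mul_mem (inv_mem (le_normalizer hnW)) (hUG _ hng)
    simpa [mul_assoc] using this
  have hW : W = ⊥ := core_eq_bot_of_normalized hB hO S (hθ.complete hEe hE8).1 hC hN
  intro t ht
  have hz : IsPGroup 2 (zpowers t) := IsPGroup.of_card (n := 1) (by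
    rw [Nat.card_zpowers, ht, pow_one])
  obtain ⟨S', hS'⟩ := hz.exists_le_sylow
  obtain ⟨g, hg⟩ := MulAction.exists_smul_eq G S' S
  have htS : g * t * g⁻¹ ∈ (S : Subgroup G) := by
    rw [← hg]
    exact ⟨t, hS' (mem_zpowers t), rfl⟩
  have h1 := hθ.theta_le_normal S.isPGroup' hES hSE hEe hE8 htS
    (by rw [← ht]; exact CentralElements.orderOf_conj g t)
  rw [← hWdef, hW, le_bot_iff, heqv, map_eq_bot_iff_of_injective _ (MulAut.conj g).injective] at h1
  exact h1

end CfsgLib.OddCores
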