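import Cfsg.Agent.OddCores.Functor
import Cfsg.Agent.Comp.ExtTwoLayer
import Cfsg.Agent.KGroup.CharTwo
import Cfsg.Agent.ZJ.Constrained

/-!
The functor of cores of involution centralizers in a group with `2`-constrained `2`-local subgroups.
-/

set_option autoImplicit false
set_option linter.unusedSectionVars false

namespace CfsgLib.OddCores

open Subgroup
open CfsgLib.SFTCor (gen)

variable {G : Type*} [Group G] [Finite G]

/-- Involution centralizers are `2`-constrained. -/
def CentralizersConstrained (G : Type*) [Group G] : Prop :=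
  ∀ t : G, orderOf t = 2 → Cfsg.IsPConstrained 2 ↥(centralizer ({t} : Set G))

theorem centralizersConstrained_of_locals
    (h : ∀ T : Subgroup G, IsPGroup 2 T → T ≠ ⊥ →
      Cfsg.IsPConstrained 2 ↥(normalizer (T : Set G))) : CentralizersConstrained G := by
  intro t ht
  have hT : IsPGroup 2 (zpowers t) :=
    IsPGroup.of_card (n := 1) (by rw [Nat.card_zpowers, ht, pow_one])
  have := h _ hT (by rw [Ne, zpowers_eq_bot]; rintro rfl; simp at ht)
  rwa [CfsgLib.CharP.normalizer_zpowers_of_orderOf_two ht] at this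

theorem isFunctor_core (hc : CentralizersConstrained G) :
    IsFunctor (fun a : G => Cfsg.centralizerPPrimeCore 2 a) := by
  refine ⟨fun a g _ => SFTCor.centralizerPPrimeCore_conj a g, fun A hA _ => ⟨fun a _ _ =>
    Signalizer.mem_centralizerPPrimeCore_le, fun a _ _ h => ?_, fun a ha _ => ?_,
    fun a ha _ b hb hb1 => ?_⟩⟩
  · exact absurd (Nat.eq_one_of_dvd_coprimes
      (Signalizer.coprime_card_centralizerPPrimeCore (p := 2) a) h dvd_rfl) (by norm_num)
  · exact Signalizer.conj_mem_of_le_normalizer ((Signalizer.le_centralizer_singleton hA ha).trans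
      (Signalizer.centralizer_le_normalizer_centralizerPPrimeCore a))
  · exact SFTCor.centralizerPPrimeCore_balance (hA.2 a ha) (Signalizer.commute hA ha hb)
      (CfsgLib.ExtTwoLayer.isPConstrained_iff.1 (hc b (orderOf_eq_two hA hb hb1)))

/-- The core of the centralizer of a `2`-element lies in that of an involution power of it. -/
theorem core_le_core {b i : G} (hb : IsPGroup 2 (zpowers b)) (hi : i ∈ zpowers b)
    (hc : Cfsg.IsPConstrained 2 ↥(centralizer ({i} : Set G))) :
    Cfsg.centralizerPPrimeCore 2 b ≤ Cfsg.centralizerPPrimeCore 2 i := by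
  set H := centralizer ({i} : Set G)
  have hCb : centralizer ({b} : Set G) ≤ H := fun x hx => mem_centralizer_singleton_iff.2 (by
    obtain ⟨k, rfl⟩ := mem_zpowers_iff.1 hi
    exact (Commute.zpow_right (mem_centralizer_singleton_iff.1 hx) k).eq)
  have hbH : b ∈ H := hCb (mem_centralizer_singleton_iff.2 rfl)
  have hP : IsPGroup 2 ((zpowers b).subgroupOf H) :=
    hb.comap_of_injective H.subtype H.subtype_injective
  have hmem : ∀ c : H, c ∈ centralizer (((zpowers b).subgroupOf H : Subgroup H) : Set H) →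
      (c : G) ∈ centralizer ({b} : Set G) := fun c hc => mem_centralizer_singleton_iff.2
    (congrArg Subtype.val (mem_centralizer_iff.1 hc ⟨b, hbH⟩
      (mem_subgroupOf.2 (mem_zpowers b)))).symm
  set D := Cfsg.centralizerPPrimeCore 2 b
  have hDH : D ≤ H := Signalizer.mem_centralizerPPrimeCore_le.trans hCb
  have hle : D.subgroupOf H ≤ Cfsg.pPrimeCore 2 ↥H := by
    refine Signalizer.le_pPrimeCore_of_centralizes
      (CfsgLib.ZJ.centralizer_pCore_quotient_le hc) hP ?_ ?_ ?_
    · intro d hd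
      refine mem_centralizer_iff.2 fun z hz => ?_
      obtain ⟨k, hk⟩ := mem_zpowers_iff.1 (mem_subgroupOf.1 hz)
      have h1 : (d : G) * b = b * d :=
        mem_centralizer_singleton_iff.1 (Signalizer.mem_centralizerPPrimeCore_le (mem_subgroupOf.1 hd))
      refine Subtype.ext ?_
      show (z : G) * d = d * z
      rw [← hk]
      exact (Commute.zpow_left h1.symm k).eq
    · intro c hcc
      have h1 := Signalizer.centralizer_le_normalizer_centralizerPPrimeCore (p := 2) b (hmem c hcc)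
      rw [mem_normalizer_iff]
      intro d
      simpa [mem_subgroupOf] using mem_normalizer_iff.1 h1 (d : G)
    · rw [Nat.card_congr (subgroupOfEquivOfLe hDH).toEquiv]
      exact Signalizer.coprime_card_centralizerPPrimeCore b
  intro d hd
  exact ⟨⟨d, hDH hd⟩, hle (mem_subgroupOf.2 hd), rfl⟩

/-- A noncyclic elementary abelian subgroup inside a group of `2`-rank above `k`. -/
theorem exists_elementary {B : Subgroup G} {k : ℕ} (hB : ¬ Cfsg.PRankLE 2 k ↥B) :
    ∃ U ≤ B, Cfsg.IsElementaryAbelian 2 U ∧ 2 ^ (k + 1) ≤ Nat.card U := by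
  simp only [Cfsg.PRankLE, not_forall, not_le] at hB
  obtain ⟨A, hA, hexp, hcard⟩ := hB
  refine ⟨A.map B.subtype, map_subtype_le A, ⟨⟨⟨?_⟩⟩, ?_⟩, ?_⟩
  · rintro ⟨_, x, hx, rfl⟩ ⟨_, y, hy, rfl⟩
    exact Subtype.ext (congrArg (fun t : A => ((t : B) : G)) (hA.is_comm.comm ⟨x, hx⟩ ⟨y, hy⟩))
  · rintro _ ⟨x, hx, rfl⟩
    simpa using congrArg Subtype.val (hexp x hx)
  · rw [card_map_of_injective (subtype_injective _)]
    obtain ⟨j, hj⟩ := IsPGroup.iff_card.1
      (show IsPGroup 2 A from fun x => ⟨1, Subtype.ext (by simpa using hexp x x.2)⟩)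
    rw [hj] at hcard ⊢
    exact Nat.pow_le_pow_right (by norm_num) ((Nat.pow_lt_pow_iff_right (by norm_num)).1 hcard)

/-- The elements of order at most two of an abelian normal subgroup of rank at least three. -/
theorem exists_normal_elementary {S : Subgroup G} {A : Subgroup ↥S} (hAn : A.Normal)
    (hAc : IsMulCommutative ↥A) (hA3 : ¬ Cfsg.PRankLE 2 2 ↥A) :
    ∃ E ≤ S, S ≤ normalizer (E : Set G) ∧ Cfsg.IsElementaryAbelian 2 E ∧ 8 ≤ Nat.card E := by
  have hcA : ∀ x ∈ A, ∀ y ∈ A, x * y = y * x := fun x hx y hy =>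
    congrArg Subtype.val (hAc.is_comm.comm (⟨x, hx⟩ : A) ⟨y, hy⟩)
  let O : Subgroup ↥S :=
    { carrier := {x | x ∈ A ∧ x ^ 2 = 1}
      one_mem' := ⟨one_mem _, one_pow 2⟩
      mul_mem' := fun {x y} hx hy =>
        ⟨mul_mem hx.1 hy.1, by rw [(show Commute x y from hcA x hx.1 y hy.1).mul_pow, hx.2, hy.2, one_mul]⟩
      inv_mem' := fun {x} hx => ⟨inv_mem hx.1, by rw [inv_pow, hx.2, inv_one]⟩ }
  have hOn : ∀ (s x : ↥S), x ∈ O → s * x * s⁻¹ ∈ O := fun s x hx =>
    ⟨hAn.conj_mem x hx.1 s, by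
      rw [sq, show s * x * s⁻¹ * (s * x * s⁻¹) = s * x ^ 2 * s⁻¹ by rw [sq]; group, hx.2]
      group⟩
  refine ⟨O.map S.subtype, map_subtype_le O, ?_, ⟨⟨⟨?_⟩⟩, ?_⟩, ?_⟩
  · refine Signalizer.le_normalizer_of_conj_mem fun s hs _ hx => ?_
    obtain ⟨x, hx, rfl⟩ := hx
    exact ⟨⟨s, hs⟩ * x * ⟨s, hs⟩⁻¹, hOn _ x hx, rfl⟩
  · rintro ⟨_, x, hx, rfl⟩ ⟨_, y, hy, rfl⟩
    exact Subtype.ext (congrArg (fun t : ↥S => (t : G)) (hcA x hx.1 y hy.1))
  · rintro _ ⟨x, hx, rfl⟩
    simpa using congrArg Subtype.val hx.2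
  · obtain ⟨U, hUA, hU, hU8⟩ := exists_elementary hA3
    rw [card_map_of_injective (subtype_injective _)]
    refine le_trans (by norm_num at hU8 ⊢; exact hU8) (Subgroup.card_le_of_le fun x hx => ⟨hUA hx, hU.2 x hx⟩)

/-- Such a subgroup exists in every Sylow subgroup as soon as it exists in one. -/
theorem exists_normal_elementary_sylow {S : Sylow 2 G} (S' : Sylow 2 G)
    (h : ∃ E ≤ (S : Subgroup G), (S : Subgroup G) ≤ normalizer (E : Set G) ∧
      Cfsg.IsElementaryAbelian 2 E ∧ 8 ≤ Nat.card E) :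
    ∃ E ≤ (S' : Subgroup G), (S' : Subgroup G) ≤ normalizer (E : Set G) ∧
      Cfsg.IsElementaryAbelian 2 E ∧ 8 ≤ Nat.card E := by
  obtain ⟨E, hES, hSE, hE, hE8⟩ := h
  obtain ⟨g, rfl⟩ := MulAction.exists_smul_eq G S S'
  have hS' : ((g • S : Sylow 2 G) : Subgroup G) =
      (S : Subgroup G).map (MulAut.conj g).toMonoidHom := rfl
  set f := (MulAut.conj g).toMonoidHom
  rw [hS']
  refine ⟨E.map f, map_mono hES, (map_mono hSE).trans (le_normalizer_map f), ⟨⟨⟨?_⟩⟩, ?_⟩, ?_⟩
  · rintro ⟨_, x, hx, rfl⟩ ⟨_, y, hy, rfl⟩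
    refine Subtype.ext ?_
    show f x * f y = f y * f x
    rw [← map_mul, ← map_mul, Signalizer.commute hE hx hy]
  · rintro _ ⟨x, hx, rfl⟩
    rw [← map_pow, hE.2 x hx, map_one]
  · rwa [card_map_of_injective (f := f) (MulAut.conj g).injective]

end CfsgLib.OddCores
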