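import Cfsg.Agent.S0217
import Cfsg.Agent.SFTCor.Equivariant
import Cfsg.Agent.OddEnd.FourteenFinal

/-!
Signalizer functors for the prime two that are defined on every elementary abelian subgroup of
order at least eight: their closures agree on the four-groups of a Sylow subgroup with a normal
elementary abelian subgroup of order at least eight.
-/

set_option autoImplicit false
set_option linter.unusedSectionVars false

namespace CfsgLib.OddCores

open Subgroup
open CfsgLib.SFTCor (gen)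

variable {G : Type*} [Group G] [Finite G]

/-- An equivariant signalizer functor on all elementary abelian `2`-subgroups of order at least
eight. -/
structure IsFunctor (θ : G → Subgroup G) : Prop where
  equivariant : ∀ a g : G, orderOf a = 2 → θ (g * a * g⁻¹) = (θ a).map (MulAut.conj g).toMonoidHom
  signalizer : ∀ A : Subgroup G, Cfsg.IsElementaryAbelian 2 A → 8 ≤ Nat.card A →
    Cfsg.IsSignalizerFunctor 2 A θ

theorem orderOf_eq_two {A : Subgroup G} (hA : Cfsg.IsElementaryAbelian 2 A) {a : G} (ha : a ∈ A)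
    (ha1 : a ≠ 1) : orderOf a = 2 := orderOf_eq_prime (hA.2 a ha) ha1

theorem le_gen {θ : G → Subgroup G} {B : Subgroup G} {b : G} (hb : b ∈ B) (hb1 : b ≠ 1) :
    θ b ≤ gen θ B := le_iSup_of_le (f := fun x : {x : G // x ∈ B ∧ x ≠ 1} => θ x) ⟨b, hb, hb1⟩ le_rfl

theorem gen_mono (θ : G → Subgroup G) {B B' : Subgroup G} (h : B ≤ B') : gen θ B ≤ gen θ B' :=
  iSup_le fun b => le_gen (h b.2.1) b.2.2

theorem gen_le_iff {θ : G → Subgroup G} {B W : Subgroup G} :
    gen θ B ≤ W ↔ ∀ b ∈ B, b ≠ 1 → θ b ≤ W :=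
  ⟨fun h b hb hb1 => (le_gen hb hb1).trans h, fun h => iSup_le fun b => h b b.2.1 b.2.2⟩

/-- The join of two commuting elementary abelian subgroups. -/
theorem elementary_sup {p : ℕ} [Fact p.Prime] {E F : Subgroup G} (hE : Cfsg.IsElementaryAbelian p E)
    (hF : Cfsg.IsElementaryAbelian p F) (hc : ∀ x ∈ E, ∀ y ∈ F, x * y = y * x) :
    Cfsg.IsElementaryAbelian p (E ⊔ F : Subgroup G) := by
  have hn : E ≤ normalizer (F : Set G) :=
    Signalizer.le_normalizer_of_conj_mem fun x hx y hy => by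
      rwa [hc x hx y hy, mul_inv_cancel_right]
  refine ⟨⟨⟨fun u v => ?_⟩⟩, fun z hz => ?_⟩
  · obtain ⟨x, hx, e, he, hxe⟩ := (CfsgLib.Solvable.mem_sup_of_le_normalizer hn).1 u.2
    obtain ⟨y, hy, f, hf, hyf⟩ := (CfsgLib.Solvable.mem_sup_of_le_normalizer hn).1 v.2
    have c1 : Commute x y := Signalizer.commute hE hx hy
    have c2 : Commute x f := hc x hx f hf
    have c3 : Commute e y := (hc y hy e he).symm
    have c4 : Commute e f := Signalizer.commute hF he hf
    refine Subtype.ext ?_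
    show (u : G) * v = v * u
    rw [← hxe, ← hyf]
    exact ((c1.mul_right c2).mul_left (c3.mul_right c4)).eq
  · obtain ⟨x, hx, e, he, rfl⟩ := (CfsgLib.Solvable.mem_sup_of_le_normalizer hn).1 hz
    rw [(show Commute x e from hc x hx e he).mul_pow, hE.2 x hx, hF.2 e he, mul_one]

theorem elementary_zpowers {x : G} (hx : x ^ 2 = 1) : Cfsg.IsElementaryAbelian 2 (zpowers x) := by
  refine ⟨inferInstance, fun y hy => ?_⟩
  obtain ⟨i, rfl⟩ := mem_zpowers_iff.1 hy
  rw [← zpow_natCast, ← zpow_mul, mul_comm, zpow_mul, zpow_natCast, hx, one_zpow]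

/-- Two distinct commuting involutions generate a subgroup of order at least four. -/
theorem elementary_pair {x y : G} (hx : orderOf x = 2) (hy : orderOf y = 2) (hne : x ≠ y)
    (hxy : x * y = y * x) :
    Cfsg.IsElementaryAbelian 2 (zpowers x ⊔ zpowers y : Subgroup G) ∧
      4 ≤ Nat.card ↥(zpowers x ⊔ zpowers y) := by
  have hE := elementary_sup (elementary_zpowers (x := x) (hx ▸ pow_orderOf_eq_one x))
    (elementary_zpowers (x := y) (hy ▸ pow_orderOf_eq_one y)) (by
      intro u hu v hv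
      obtain ⟨i, rfl⟩ := mem_zpowers_iff.1 hu
      obtain ⟨j, rfl⟩ := mem_zpowers_iff.1 hv
      exact (Commute.zpow_zpow hxy i j).eq)
  refine ⟨hE, ?_⟩
  by_contra hlt
  push Not at hlt
  have hc : Nat.card (zpowers x) = 2 := (Nat.card_zpowers x).trans hx
  have hx2 : x ^ 2 = 1 := hx ▸ pow_orderOf_eq_one x
  obtain ⟨k, hk⟩ := IsPGroup.iff_card.1 (Signalizer.isPGroup hE)
  have hk1 : k ≤ 1 := by
    by_contra h
    push Not at h
    have : 2 ^ 2 ≤ 2 ^ k := Nat.pow_le_pow_right (by norm_num) h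
    omega
  have he : zpowers x = zpowers x ⊔ zpowers y :=
    eq_of_le_of_card_ge le_sup_left (by
      rw [hc, hk]
      exact (Nat.pow_le_pow_right (by norm_num) hk1))
  have hy' : y ∈ zpowers x := he ▸ mem_sup_right (mem_zpowers y)
  obtain ⟨j, rfl⟩ := mem_zpowers_iff.1 hy'
  rcases Int.even_or_odd' j with ⟨i, rfl | rfl⟩
  · rw [zpow_mul, zpow_two, ← sq, hx2, one_zpow, orderOf_one] at hy
    norm_num at hy
  · exact hne (by rw [zpow_add, zpow_mul, zpow_two, ← sq, hx2, one_zpow, one_mul, zpow_one])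

/-- A non-trivial elementary abelian group normalized by a `2`-group has a fixed involution. -/
theorem exists_fixed {E U : Subgroup G} (hU : IsPGroup 2 U) (hE : Cfsg.IsElementaryAbelian 2 E)
    (hE1 : 2 ≤ Nat.card E) (hUE : U ≤ normalizer (E : Set G)) :
    ∃ z ∈ E, orderOf z = 2 ∧ z ∈ centralizer (U : Set G) := by
  let _ : MulAction U E :=
    { smul := fun u e => ⟨(u : G) * e * (u : G)⁻¹, (mem_normalizer_iff.1 (hUE u.2) e).1 e.2⟩
      one_smul := fun e => Subtype.ext (show (1 : G) * e * (1 : G)⁻¹ = e by group)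
      mul_smul := fun u v e => Subtype.ext (show ((u : G) * v) * e * ((u : G) * v)⁻¹ =
        (u : G) * ((v : G) * e * (v : G)⁻¹) * (u : G)⁻¹ by group) }
  obtain ⟨k, hk⟩ := IsPGroup.iff_card.1 (Signalizer.isPGroup hE)
  have hk0 : k ≠ 0 := fun h => by rw [h] at hk; omega
  obtain ⟨z, hz, hne⟩ := hU.exists_fixed_point_of_prime_dvd_card_of_fixed_point E
    (hk ▸ dvd_pow_self 2 hk0) (a := (1 : E))
    (fun u => Subtype.ext (show (u : G) * (1 : G) * (u : G)⁻¹ = 1 by group))
  refine ⟨z, z.2, orderOf_eq_two hE z.2 fun h => hne (Subtype.ext h.symm), ?_⟩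
  refine mem_centralizer_iff.2 fun u hu => ?_
  exact mul_inv_eq_iff_eq_mul.1 (congrArg Subtype.val (hz ⟨u, hu⟩))

/-- An involution normalizing an elementary abelian group of order at least eight centralizes at
least four of its elements. -/
theorem card_fixed {E : Subgroup G} {u : G} (hu : orderOf u = 2)
    (hE : Cfsg.IsElementaryAbelian 2 E) (hE8 : 8 ≤ Nat.card E)
    (hn : u ∈ normalizer (E : Set G)) : 4 ≤ Nat.card ↥(E ⊓ centralizer {u}) := by
  have huu : u * u = 1 := by rw [← sq, ← hu, pow_orderOf_eq_one]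
  have hinv : u⁻¹ = u := inv_eq_of_mul_eq_one_right huu
  have hmem : ∀ e : E, u * (e : G) * u ∈ E := fun e => by
    have := (mem_normalizer_iff.1 hn e).1 e.2
    rwa [hinv] at this
  let f : E →* E :=
    { toFun := fun e => e * ⟨u * e * u, hmem e⟩
      map_one' := Subtype.ext (show (1 : G) * (u * 1 * u) = 1 by rw [one_mul, mul_one, huu])
      map_mul' := fun e e' => Subtype.ext (by
        show (e : G) * e' * (u * (e * e') * u) = e * (u * e * u) * (e' * (u * e' * u))
        rw [show u * ((e : G) * e') * u = (u * e * u) * (u * e' * u) by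
          simp only [mul_assoc]
          rw [← mul_assoc u u, huu, one_mul]]
        have c := Signalizer.commute hE e'.2 (hmem e)
        calc (e : G) * e' * ((u * e * u) * (u * e' * u))
            = e * ((e' : G) * (u * e * u)) * (u * e' * u) := by simp only [mul_assoc]
          _ = _ := by rw [c]; simp only [mul_assoc]) }
  have hker : ∀ e : E, f e = 1 → (e : G) ∈ E ⊓ centralizer {u} := by
    intro e he
    refine ⟨e.2, mem_centralizer_singleton_iff.2 ?_⟩
    have h1 : (e : G) * (u * e * u) = 1 := congrArg Subtype.val he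
    have h2 : (e : G) * e = 1 := by rw [← sq, hE.2 e e.2]
    have h3 : u * (e : G) * u = e := mul_left_cancel (h1.trans h2.symm)
    calc (e : G) * u = u * e * u * u := by rw [h3]
      _ = u * e := by rw [mul_assoc, huu, mul_one]
  have hrange : ∀ e : E, (f e : G) ∈ E ⊓ centralizer {u} := by
    intro e
    refine ⟨(f e).2, mem_centralizer_singleton_iff.2 ?_⟩
    show (e : G) * (u * e * u) * u = u * (e * (u * e * u))
    calc (e : G) * (u * e * u) * u = e * (u * e) := by
          rw [mul_assoc (e : G), mul_assoc (u * e), huu, mul_one]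
      _ = u * ((u * e * u) * e) := by
          simp only [mul_assoc]
          rw [← mul_assoc u u, huu, one_mul]
      _ = u * (e * (u * e * u)) := by rw [Signalizer.commute hE e.2 (hmem e)]
  have h1 : Nat.card f.ker ≤ Nat.card ↥(E ⊓ centralizer {u}) :=
    Nat.card_le_card_of_injective (fun e => ⟨((e : E) : G), hker e e.2⟩)
      fun a b h => Subtype.ext (Subtype.ext (congrArg (fun t : ↥(E ⊓ centralizer {u}) => (t : G)) h))
  have h2 : Nat.card f.range ≤ Nat.card ↥(E ⊓ centralizer {u}) :=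
    Nat.card_le_card_of_injective
      (fun e => ⟨((e : E) : G), by obtain ⟨_, x, rfl⟩ := e; exact hrange x⟩)
      fun a b h => Subtype.ext (Subtype.ext (congrArg (fun t : ↥(E ⊓ centralizer {u}) => (t : G)) h))
  have h3 := f.ker.card_mul_index
  rw [index_ker] at h3
  obtain ⟨k, hk⟩ := IsPGroup.iff_card.1
    ((Signalizer.isPGroup hE).to_le (inf_le_left : E ⊓ centralizer {u} ≤ E))
  have h4 := Nat.mul_le_mul h1 h2
  rw [h3, hk] at h4
  rw [hk]
  refine (show 4 = 2 ^ 2 by norm_num) ▸ Nat.pow_le_pow_right (by norm_num) ?_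
  by_contra h
  push Not at h
  have : 2 ^ k ≤ 2 := by
    calc 2 ^ k ≤ 2 ^ 1 := Nat.pow_le_pow_right (by norm_num) (by omega)
      _ = 2 := by norm_num
  nlinarith

namespace IsFunctor

variable {θ : G → Subgroup G} (hθ : IsFunctor θ)
include hθ

theorem complete {A : Subgroup G} (hA : Cfsg.IsElementaryAbelian 2 A) (hA8 : 8 ≤ Nat.card A) :
    Odd (Nat.card ↥(gen θ A)) ∧ (∀ a ∈ A, a ≠ 1 → gen θ A ⊓ centralizer {a} = θ a) ∧
      A ≤ normalizer (gen θ A : Set G) := by
  obtain ⟨h1, h2, h3, h4⟩ := hθ.signalizer A hA hA8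
  have hodd : ∀ a ∈ A, a ≠ 1 → Odd (Nat.card (θ a)) := fun a ha ha1 =>
    Nat.not_even_iff_odd.1 fun h => h2 a ha ha1 (even_iff_two_dvd.1 h)
  obtain ⟨h5, h6⟩ := Cfsg.Agent.S0217.result (p := 2) A
    (fun a ha b hb => Signalizer.commute hA ha hb) hA.2 (by norm_num; exact hA8) θ h1 h2 h3
    (fun a ha ha1 => CfsgLib.OddEnd.odd_solvable _ (hodd a ha ha1)) h4
  refine ⟨Nat.not_even_iff_odd.1 fun h => h5 (even_iff_two_dvd.1 h), h6, ?_⟩
  exact le_trans (le_iInf fun (a : {a : G // a ∈ A ∧ a ≠ 1}) => Signalizer.le_normalizer_of_conj_mem (h3 a a.2.1 a.2.2))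
    (iInf_normalizer_le_normalizer_iSup _)

theorem gen_eq {E A : Subgroup G} (hA : Cfsg.IsElementaryAbelian 2 A) (hA8 : 8 ≤ Nat.card A)
    (hEA : E ≤ A) (hE4 : 4 ≤ Nat.card E) : gen θ E = gen θ A := by
  obtain ⟨h1, h2, h3⟩ := hθ.complete hA hA8
  refine le_antisymm (gen_mono θ hEA) ?_
  refine Signalizer.le_of_forall_centralizer hA hEA (by norm_num; exact hE4) (hEA.trans h3)
    (fun h => (Nat.not_even_iff_odd.2 h1) (even_iff_two_dvd.2 h)) fun e he he1 => ?_
  rw [h2 e (hEA he) he1]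
  exact le_gen he he1

theorem gen_eq_of_commute {E F : Subgroup G} (hE : Cfsg.IsElementaryAbelian 2 E)
    (hF : Cfsg.IsElementaryAbelian 2 F) (hE4 : 4 ≤ Nat.card E) (hF4 : 4 ≤ Nat.card F)
    (hc : ∀ x ∈ E, ∀ y ∈ F, x * y = y * x) : gen θ E = gen θ F := by
  rcases eq_or_ne E F with rfl | hne
  · rfl
  have hA := elementary_sup hE hF hc
  have hA8 : 8 ≤ Nat.card ↥(E ⊔ F) := by
    obtain ⟨k, hk⟩ := IsPGroup.iff_card.1 (Signalizer.isPGroup hA)
    by_contra h
    push Not at h
    rw [hk] at h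
    have hk2 : k ≤ 2 := by
      by_contra h'
      push Not at h'
      have : 2 ^ 3 ≤ 2 ^ k := Nat.pow_le_pow_right (by norm_num) h'
      omega
    have h4 : 2 ^ k ≤ 4 := (Nat.pow_le_pow_right (by norm_num) hk2).trans (by norm_num)
    exact hne ((eq_of_le_of_card_ge le_sup_left (by rw [hk]; omega)).trans
      (eq_of_le_of_card_ge le_sup_right (by rw [hk]; omega)).symm)
  rw [hθ.gen_eq hA hA8 le_sup_left hE4, hθ.gen_eq hA hA8 le_sup_right hF4]

theorem map_gen {B : Subgroup G} (hB : ∀ b ∈ B, b ≠ 1 → ∀ g : G,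
    θ (g * b * g⁻¹) = (θ b).map (MulAut.conj g).toMonoidHom) :
    normalizer (B : Set G) ≤ normalizer (gen θ B : Set G) := by
  refine Signalizer.le_normalizer_of_conj_mem fun g hg w hw => ?_
  have h1 : (gen θ B).map (MulAut.conj g).toMonoidHom ≤ gen θ B := by
    rw [gen, Subgroup.map_iSup]
    refine iSup_le fun b => ?_
    rw [← hB b b.2.1 b.2.2 g]
    exact le_gen ((mem_normalizer_iff.1 hg b).1 b.2.1) fun h => b.2.2 (conj_eq_one_iff.1 h)
  exact h1 ⟨w, hw, rfl⟩

variable {S E : Subgroup G} (hS : IsPGroup 2 S) (hES : E ≤ S) (hSE : S ≤ normalizer (E : Set G))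
  (hE : Cfsg.IsElementaryAbelian 2 E) (hE8 : 8 ≤ Nat.card E)
include hS hES hSE hE hE8

/-- All noncyclic elementary abelian subgroups of `S` give the closure belonging to `E`. -/
theorem gen_eq_normal {U : Subgroup G} (hU : Cfsg.IsElementaryAbelian 2 U) (hUS : U ≤ S)
    (hU4 : 4 ≤ Nat.card U) : gen θ U = gen θ E := by
  obtain ⟨z, hzE, hz, hzU⟩ := exists_fixed (hS.to_le hUS) hE (by omega) (hUS.trans hSE)
  obtain ⟨u, huU, hu1, huz⟩ : ∃ u ∈ U, u ≠ 1 ∧ u ≠ z := by
    by_contra h
    push Not at h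
    have hsub : (U : Set G) ⊆ {1, z} := fun u hu => by
      rcases eq_or_ne u 1 with rfl | h1
      · exact Or.inl rfl
      · exact Or.inr (h u hu h1)
    have h1 := Set.ncard_le_ncard hsub (Set.toFinite _)
    have h2 : ({1, z} : Set G).ncard ≤ 2 := (Set.ncard_insert_le _ _).trans (by simp)
    rw [← Nat.card_coe_set_eq] at h1
    have : Nat.card (U : Set G) = Nat.card U := rfl
    omega
  have hu := orderOf_eq_two hU huU hu1
  have huzc : u * z = z * u := mem_centralizer_iff.1 hzU u huU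
  obtain ⟨hF, hF4⟩ := elementary_pair hu hz huz huzc
  have hK4 := card_fixed hu hE hE8 (hSE (hUS huU))
  have hKel : Cfsg.IsElementaryAbelian 2 (E ⊓ centralizer {u} : Subgroup G) :=
    Signalizer.of_le hE inf_le_left
  have hmem : ∀ {C : Subgroup G}, u ∈ C → z ∈ C → zpowers u ⊔ zpowers z ≤ C := fun a b =>
    sup_le (zpowers_le.2 a) (zpowers_le.2 b)
  have e1 : gen θ U = gen θ (zpowers u ⊔ zpowers z) := by
    refine hθ.gen_eq_of_commute hU hF hU4 hF4 fun x hx y hy => ?_
    exact mem_centralizer_iff.1 (hmem (Signalizer.le_centralizer_of_le hU le_rfl huU) hzU hy) x hx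
  have e2 : gen θ (zpowers u ⊔ zpowers z) = gen θ (E ⊓ centralizer {u}) := by
    refine hθ.gen_eq_of_commute hF hKel hF4 hK4 fun x hx y hy => ?_
    have hxy : x ∈ centralizer {y} := hmem
      (mem_centralizer_singleton_iff.2 (mem_centralizer_singleton_iff.1 hy.2).symm)
      (mem_centralizer_singleton_iff.2 (Signalizer.commute hE hzE hy.1)) hx
    exact mem_centralizer_singleton_iff.1 hxy
  exact e1.trans (e2.trans (hθ.gen_eq hE hE8 inf_le_left hK4))

theorem theta_le_normal {i : G} (hi : i ∈ S) (hi2 : orderOf i = 2) : θ i ≤ gen θ E := by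
  by_cases hiE : i ∈ E
  · exact le_gen hiE (by rintro rfl; simp at hi2)
  obtain ⟨z, hzE, hz, hzi⟩ := exists_fixed (hS.to_le (zpowers_le.2 hi)) hE (by omega)
    ((zpowers_le.2 hi).trans hSE)
  have hne : i ≠ z := fun h => hiE (h ▸ hzE)
  obtain ⟨hF, hF4⟩ := elementary_pair hi2 hz hne (mem_centralizer_iff.1 hzi i (mem_zpowers i))
  rw [← hθ.gen_eq_normal hS hES hSE hE hE8 hF
    (sup_le (zpowers_le.2 hi) (zpowers_le.2 (hES hzE))) hF4]
  exact le_gen (mem_sup_left (mem_zpowers i)) (by rintro rfl; simp at hi2)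

end IsFunctor

end CfsgLib.OddCores
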