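import Cfsg.Agent.OddCores.Bot
import Cfsg.Agent.OddLocal.TransitivityCases
import Cfsg.Agent.OddEnd.FourteenFinal

/-!
Cores of involution centralizers in simple groups with constrained `2`-locals and in groups with
solvable involution centralizers, given that cores of strongly embedded subgroups lie in the core
of the group.
-/

set_option autoImplicit false
set_option linter.style.haveILetI false

namespace CfsgLib.OddCores

open Subgroup

universe u

variable {G : Type u} [Group G] [Finite G]

theorem oddCore_eq_bot_of_simple [IsSimpleGroup G] (hG : ¬ IsMulCommutative G) :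
    Cfsg.oddCore G = ⊥ := by
  haveI : (Cfsg.oddCore G).Normal := CfsgLib.Solvable.pPrimeCore_normal 2
  rcases Subgroup.Normal.eq_bot_or_eq_top (inferInstance : (Cfsg.oddCore G).Normal) with h | h
  · exact h
  · exfalso
    have hodd : Odd (Nat.card G) := by
      have := CfsgLib.Solvable.coprime_card_pPrimeCore (G := G) 2
      rw [show Cfsg.pPrimeCore 2 G = ⊤ from h, Subgroup.card_top] at this
      exact Nat.coprime_two_right.1 this
    haveI := CfsgLib.OddEnd.odd_solvable G hodd
    exact hG ⟨⟨fun a b => IsSimpleGroup.comm_iff_isSolvable.2 inferInstance a b⟩⟩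

theorem cores_eq_bot_of_locals [IsSimpleGroup G] (hB : StrongCoreInCore G)
    (hG : ¬ IsMulCommutative G)
    (h2c : ∀ T : Subgroup G, IsPGroup 2 T → T ≠ ⊥ →
      Cfsg.IsPConstrained 2 ↥(Subgroup.normalizer (T : Set G)))
    (S : Sylow 2 G) (A : Subgroup ↥(S : Subgroup G)) (hAn : A.Normal)
    (hAab : IsMulCommutative ↥A) (hA3 : ¬ Cfsg.PRankLE 2 2 ↥A) :
    ∀ t : G, orderOf t = 2 → Cfsg.centralizerPPrimeCore 2 t = ⊥ :=
  centralizer_core_eq_bot hB (centralizersConstrained_of_locals h2c) (oddCore_eq_bot_of_simple hG)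
    (exists_normal_elementary hAn hAab hA3)

theorem cores_eq_bot_of_solvable (hB : StrongCoreInCore G) (hO : Cfsg.oddCore G = ⊥)
    (S : Sylow 2 G) (A : Subgroup G) (hAS : A ≤ S) (hAn : (A.subgroupOf S).Normal)
    (hAc : IsMulCommutative A) (hA3 : ¬ Cfsg.PRankLE 2 2 A)
    (hsol : ∀ t : G, orderOf t = 2 → Group.IsSolvable (Subgroup.centralizer ({t} : Set G))) :
    ∀ t : G, orderOf t = 2 → Cfsg.oddCore (Subgroup.centralizer ({t} : Set G)) = ⊥ := by
  haveI : Fact (Nat.Prime 2) := ⟨Nat.prime_two⟩
  set e := subgroupOfEquivOfLe hAS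
  have hAc' : IsMulCommutative ↥(A.subgroupOf (S : Subgroup G)) := ⟨⟨fun x y => e.injective (by
    rw [map_mul, map_mul]; exact hAc.is_comm.comm _ _)⟩⟩
  have hA3' : ¬ Cfsg.PRankLE 2 2 ↥(A.subgroupOf (S : Subgroup G)) := fun h => hA3 fun B hBc hBe => by
    haveI := hBc
    have := h (B.map e.symm.toMonoidHom)
      ⟨⟨by
        rintro ⟨_, x, hx, rfl⟩ ⟨_, y, hy, rfl⟩
        refine Subtype.ext ?_
        show e.symm x * e.symm y = e.symm y * e.symm x
        rw [← map_mul, ← map_mul,
          show x * y = y * x from congrArg Subtype.val (hBc.is_comm.comm ⟨x, hx⟩ ⟨y, hy⟩)]⟩⟩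
      (by
        rintro _ ⟨x, hx, rfl⟩
        rw [← map_pow, hBe x hx, map_one])
    rwa [card_map_of_injective e.symm.injective] at this
  have hc : CentralizersConstrained G := fun t ht =>
    haveI := hsol t ht
    CfsgLib.OddLocal.THCases.isPConstrained_of_solvable
  intro t ht
  have h := centralizer_core_eq_bot hB hc hO (exists_normal_elementary hAn hAc' hA3') t ht
  exact (map_eq_bot_iff_of_injective _ (Subgroup.subtype_injective _)).1 h

end CfsgLib.OddCores
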